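import Mathlib
import Cfsg.Agent.Lib.Helper19.SPU.Defs
import Cfsg.Agent.Lib.Helper40.Fitting

/-!
# Project SPU (S2316): package [FIT1]

The double count for the stratum of isometries of `diag(K₁, K₂)` whose `g - 1` has stable rank
`|β|` (copy of `Helper40.fitting_count` with isometries).
-/

set_option autoImplicit false

namespace Cfsg.Agent.Lib.Helper90.SPU

open Matrix Cfsg.Agent.Lib.Helper19.SPU Cfsg.Agent.Lib.Helper40

universe u

section basics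

variable {F : Type u} [Field F] {n : Type} [Fintype n] [DecidableEq n]

theorem isom_isUnit {K g : Matrix n n F} (hK : IsUnit K) (hg : Isom K g) : IsUnit g := by
  rw [Matrix.isUnit_iff_isUnit_det] at hK ⊢
  have h := congrArg Matrix.det hg
  rw [Matrix.det_mul, Matrix.det_mul, Matrix.det_transpose] at h
  have h1 : (g.det * g.det) * K.det = 1 * K.det := by rw [one_mul]; linear_combination h
  have h2 : g.det * g.det = 1 := mul_right_cancel₀ hK.ne_zero h1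
  exact IsUnit.of_mul_eq_one _ h2

theorem isom_mul {K P Q : Matrix n n F} (hP : Isom K P) (hQ : Isom K Q) : Isom K (P * Q) := by
  unfold Isom at *
  rw [Matrix.transpose_mul]
  calc Qᵀ * Pᵀ * K * (P * Q) = Qᵀ * (Pᵀ * K * P) * Q := by simp only [Matrix.mul_assoc]
    _ = K := by rw [hP, hQ]

theorem isom_inv {K : Matrix n n F} (P : GL n F) (hP : Isom K P.val) : Isom K (P⁻¹).val := by
  unfold Isom at *
  have e1 : ((P⁻¹).val)ᵀ * P.valᵀ = 1 := by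
    rw [← Matrix.transpose_mul, Units.mul_inv, Matrix.transpose_one]
  have h : ((P⁻¹).val)ᵀ * (P.valᵀ * K * P.val) * (P⁻¹).val = K := by
    calc ((P⁻¹).val)ᵀ * (P.valᵀ * K * P.val) * (P⁻¹).val
        = (((P⁻¹).val)ᵀ * P.valᵀ) * K * (P.val * (P⁻¹).val) := by simp only [Matrix.mul_assoc]
      _ = K := by rw [e1, Units.mul_inv, Matrix.one_mul, Matrix.mul_one]
  rw [hP] at h
  exact h

theorem isom_fromBlocks {α β : Type} [Fintype α] [DecidableEq α] [Fintype β] [DecidableEq β]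
    (K₁ Q₁ : Matrix α α F) (K₂ Q₂ : Matrix β β F) :
    Isom (Matrix.fromBlocks K₁ 0 0 K₂) (Matrix.fromBlocks Q₁ 0 0 Q₂) ↔
      Isom K₁ Q₁ ∧ Isom K₂ Q₂ := by
  unfold Isom
  rw [Matrix.fromBlocks_transpose, Matrix.fromBlocks_multiply, Matrix.fromBlocks_multiply,
    Matrix.fromBlocks_inj]
  simp

theorem card_isomGL {K : Matrix n n F} (hK : IsUnit K) :
    Nat.card {P : GL n F // Isom K P.val} = cI K := by
  unfold cI
  refine Nat.card_eq_of_bijective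
    (fun P => (⟨P.1.val, P.2⟩ : {g : Matrix n n F // Isom K g})) ⟨?_, ?_⟩
  · rintro ⟨P, hP⟩ ⟨P', hP'⟩ h
    have h1 : P.val = P'.val := congrArg Subtype.val h
    exact Subtype.ext (Units.ext h1)
  · rintro ⟨g, hg⟩
    obtain ⟨P, hP⟩ := isom_isUnit hK hg
    exact ⟨⟨P, by rw [hP]; exact hg⟩, Subtype.ext hP⟩

theorem isUnit_fromBlocks_diag {α β : Type} [Fintype α] [DecidableEq α] [Fintype β]
    [DecidableEq β] {K₁ : Matrix α α F} {K₂ : Matrix β β F} (h₁ : IsUnit K₁) (h₂ : IsUnit K₂) :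
    IsUnit (Matrix.fromBlocks K₁ 0 0 K₂) := by
  rw [Matrix.isUnit_iff_isUnit_det, Matrix.det_fromBlocks_zero₂₁]
  exact ((Matrix.isUnit_iff_isUnit_det _).mp h₁).mul ((Matrix.isUnit_iff_isUnit_det _).mp h₂)

theorem semiconj_aux {ι : Type*} [Fintype ι] [DecidableEq ι] (M D D' : Matrix ι ι F)
    (P₀ P : GL ι F) (h0 : M * P₀.val = P₀.val * D) (h : M * P.val = P.val * D') :
    D * (P₀⁻¹ * P).val = (P₀⁻¹ * P).val * D' := by
  have h1 : D * (P₀⁻¹).val = (P₀⁻¹).val * M := by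
    have e1 : (P₀⁻¹).val * (M * P₀.val) * (P₀⁻¹).val = (P₀⁻¹).val * M := by
      rw [Matrix.mul_assoc, Matrix.mul_assoc, Units.mul_inv, Matrix.mul_one]
    have e2 : (P₀⁻¹).val * (P₀.val * D) * (P₀⁻¹).val = D * (P₀⁻¹).val := by
      rw [← Matrix.mul_assoc, Units.inv_mul, Matrix.one_mul]
    rw [← e1, ← e2, h0]
  rw [Units.val_mul, ← Matrix.mul_assoc, h1, Matrix.mul_assoc, h, Matrix.mul_assoc]

theorem fromBlocks_sub_one {α β : Type} [Fintype α] [DecidableEq α] [Fintype β] [DecidableEq β]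
    (A : Matrix α α F) (B : Matrix β β F) :
    Matrix.fromBlocks (A - 1) 0 0 (B - 1) = Matrix.fromBlocks A 0 0 B - 1 := by
  ext (i | i) (j | j) <;> simp [Matrix.one_apply]

end basics

/-- [FIT1] the double count for the stratum of isometries. -/
theorem pkgFit1_of (hDec : PkgDec1N.{u}) : PkgFit1.{u} := by
  intro F _ _ α β _ _ _ _ K₁ K₂ hK₁ hK₂
  classical
  have hKu : IsUnit (Matrix.fromBlocks K₁ 0 0 K₂) := isUnit_fromBlocks_diag hK₁.2.2 hK₂.2.2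
  let X : Type _ := {x : GL (α ⊕ β) F × Matrix (α ⊕ β) (α ⊕ β) F //
    Isom (Matrix.fromBlocks K₁ 0 0 K₂) x.1.val ∧ ∃ (g₁ : Matrix α α F) (g₂ : Matrix β β F),
      Isom K₁ g₁ ∧ IsNilpotent (g₁ - 1) ∧ Isom K₂ g₂ ∧ IsUnit (g₂ - 1) ∧
      x.2 * x.1.val = x.1.val * Matrix.fromBlocks g₁ 0 0 g₂}
  -- first parametrisation
  let f₁ : {P : GL (α ⊕ β) F // Isom (Matrix.fromBlocks K₁ 0 0 K₂) P.val} ×
      ({g₁ : Matrix α α F // Isom K₁ g₁ ∧ IsNilpotent (g₁ - 1)} ×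
        {g₂ : Matrix β β F // Isom K₂ g₂ ∧ IsUnit (g₂ - 1)}) → X := fun t =>
    ⟨(t.1.1, t.1.1.val * Matrix.fromBlocks t.2.1.1 0 0 t.2.2.1 * (t.1.1⁻¹).val), t.1.2,
      t.2.1.1, t.2.2.1, t.2.1.2.1, t.2.1.2.2, t.2.2.2.1, t.2.2.2.2, by
        show t.1.1.val * Matrix.fromBlocks t.2.1.1 0 0 t.2.2.1 * (t.1.1⁻¹).val * t.1.1.val =
          t.1.1.val * Matrix.fromBlocks t.2.1.1 0 0 t.2.2.1
        rw [Matrix.mul_assoc, Units.inv_mul, Matrix.mul_one]⟩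
  have hf₁ : Function.Bijective f₁ := by
    constructor
    · rintro ⟨⟨P, hP⟩, ⟨g₁, hg₁⟩, ⟨g₂, hg₂⟩⟩ ⟨⟨P', hP'⟩, ⟨g₁', hg₁'⟩, ⟨g₂', hg₂'⟩⟩ hEq
      have h1 := congrArg (fun x : X => x.1.1) hEq
      have h2 := congrArg (fun x : X => x.1.2) hEq
      simp only [f₁] at h1 h2
      subst h1
      have h3 : Matrix.fromBlocks g₁ 0 0 g₂ = Matrix.fromBlocks g₁' 0 0 g₂' := by
        have := congrArg (fun Z => (P⁻¹).val * Z * P.val) h2
        simpa [Matrix.mul_assoc, ← Matrix.mul_assoc (P⁻¹).val P.val] using this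
      rw [Matrix.fromBlocks_inj] at h3
      obtain ⟨e1, -, -, e2⟩ := h3
      subst e1; subst e2
      rfl
    · rintro ⟨⟨P, M⟩, hP, g₁, g₂, h1, h2, h3, h4, h⟩
      refine ⟨(⟨P, hP⟩, ⟨g₁, h1, h2⟩, ⟨g₂, h3, h4⟩), ?_⟩
      apply Subtype.ext
      simp only [f₁]
      refine Prod.ext rfl ?_
      simp only
      simp only at h
      rw [← h, Matrix.mul_assoc, Units.mul_inv, Matrix.mul_one]
  -- second parametrisation
  let S : Type _ := {g : Matrix (α ⊕ β) (α ⊕ β) F // Isom (Matrix.fromBlocks K₁ 0 0 K₂) g ∧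
    ((g - 1) ^ Fintype.card (α ⊕ β)).rank = Fintype.card β}
  have hex : ∀ g : S, ∃ (P : GL (α ⊕ β) F) (g₁ : Matrix α α F) (g₂ : Matrix β β F),
      Isom (Matrix.fromBlocks K₁ 0 0 K₂) P.val ∧
      g.1 * P.val = P.val * Matrix.fromBlocks g₁ 0 0 g₂ ∧ Isom K₁ g₁ ∧ Isom K₂ g₂ ∧
      IsNilpotent (g₁ - 1) ∧ IsUnit (g₂ - 1) := fun g =>
    hDec F α β K₁ K₂ g.1 hK₁ hK₂ g.2.1 (by rw [← Fintype.card_sum]; exact g.2.2)
  choose P₀ a₀ b₀ hP₀ hPD hI₁ hI₂ hN₀ hA₀ using hex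
  have hconj : ∀ (g : S) (Q₁ : GL α F) (Q₂ : GL β F), Isom K₁ Q₁.val → Isom K₂ Q₂.val →
      Isom (Matrix.fromBlocks K₁ 0 0 K₂) (P₀ g * diagGL Q₁ Q₂).val ∧
      ∃ (g₁ : Matrix α α F) (g₂ : Matrix β β F), Isom K₁ g₁ ∧ IsNilpotent (g₁ - 1) ∧
        Isom K₂ g₂ ∧ IsUnit (g₂ - 1) ∧
        g.1 * (P₀ g * diagGL Q₁ Q₂).val =
          (P₀ g * diagGL Q₁ Q₂).val * Matrix.fromBlocks g₁ 0 0 g₂ := by
    intro g Q₁ Q₂ hQ₁ hQ₂
    refine ⟨?_, (Q₁⁻¹).val * a₀ g * Q₁.val, (Q₂⁻¹).val * b₀ g * Q₂.val, ?_, ?_, ?_, ?_, ?_⟩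
    · rw [Units.val_mul, diagGL_val]
      exact isom_mul (hP₀ g) ((isom_fromBlocks K₁ Q₁.val K₂ Q₂.val).mpr ⟨hQ₁, hQ₂⟩)
    · exact isom_mul (isom_mul (isom_inv Q₁ hQ₁) (hI₁ g)) hQ₁
    · have e : (Q₁⁻¹).val * a₀ g * Q₁.val - 1 = (Q₁⁻¹).val * (a₀ g - 1) * Q₁.val := by
        rw [Matrix.mul_sub, Matrix.sub_mul, Matrix.mul_one, Units.inv_mul]
      rw [e]
      obtain ⟨k, hk⟩ := hN₀ g
      exact ⟨k, by rw [Units.conj_pow', hk, Matrix.mul_zero, Matrix.zero_mul]⟩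
    · exact isom_mul (isom_mul (isom_inv Q₂ hQ₂) (hI₂ g)) hQ₂
    · have e : (Q₂⁻¹).val * b₀ g * Q₂.val - 1 = (Q₂⁻¹).val * (b₀ g - 1) * Q₂.val := by
        rw [Matrix.mul_sub, Matrix.sub_mul, Matrix.mul_one, Units.inv_mul]
      rw [e]
      exact ((Q₂⁻¹).isUnit.mul (hA₀ g)).mul Q₂.isUnit
    · have e : Matrix.fromBlocks ((Q₁⁻¹).val * a₀ g * Q₁.val) 0 0
          ((Q₂⁻¹).val * b₀ g * Q₂.val) =
          (diagGL Q₁ Q₂)⁻¹.val * Matrix.fromBlocks (a₀ g) 0 0 (b₀ g) * (diagGL Q₁ Q₂).val := by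
        rw [diagGL_inv_val, diagGL_val, Matrix.fromBlocks_multiply, Matrix.fromBlocks_multiply]
        simp
      rw [e, Units.val_mul, ← Matrix.mul_assoc, hPD g]
      simp only [Matrix.mul_assoc]
      rw [Units.mul_inv_cancel_left]
  let f₂ : S × ({Q₁ : GL α F // Isom K₁ Q₁.val} × {Q₂ : GL β F // Isom K₂ Q₂.val}) → X :=
    fun t => ⟨(P₀ t.1 * diagGL t.2.1.1 t.2.2.1, t.1.1),
      hconj t.1 t.2.1.1 t.2.2.1 t.2.1.2 t.2.2.2⟩
  have hf₂ : Function.Bijective f₂ := by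
    constructor
    · rintro ⟨M, ⟨Q₁, hQ₁⟩, ⟨Q₂, hQ₂⟩⟩ ⟨M', ⟨Q₁', hQ₁'⟩, ⟨Q₂', hQ₂'⟩⟩ hEq
      have h1 := congrArg (fun x : X => x.1.1) hEq
      have h2 := congrArg (fun x : X => x.1.2) hEq
      simp only [f₂] at h1 h2
      have hM : M = M' := Subtype.ext h2
      subst hM
      have h3 : diagGL Q₁ Q₂ = diagGL Q₁' Q₂' := mul_left_cancel h1
      have h4 := congrArg Units.val h3
      rw [diagGL_val, diagGL_val, Matrix.fromBlocks_inj] at h4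
      obtain ⟨h5, -, -, h6⟩ := h4
      have e1 : Q₁ = Q₁' := Units.ext h5
      have e2 : Q₂ = Q₂' := Units.ext h6
      subst e1; subst e2
      rfl
    · rintro ⟨⟨P, M⟩, hP, g₁, g₂, hg₁, hn₁, hg₂, hu₂, h⟩
      replace h : M * P.val = P.val * Matrix.fromBlocks g₁ 0 0 g₂ := h
      replace hP : Isom (Matrix.fromBlocks K₁ 0 0 K₂) P.val := hP
      have hD : Isom (Matrix.fromBlocks K₁ 0 0 K₂) (Matrix.fromBlocks g₁ 0 0 g₂) :=
        (isom_fromBlocks K₁ g₁ K₂ g₂).mpr ⟨hg₁, hg₂⟩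
      have hMeq : M = P.val * Matrix.fromBlocks g₁ 0 0 g₂ * (P⁻¹).val := by
        rw [← h, Matrix.mul_assoc, Units.mul_inv, Matrix.mul_one]
      have hMi : Isom (Matrix.fromBlocks K₁ 0 0 K₂) M := by
        rw [hMeq]
        exact isom_mul (isom_mul hP hD) (isom_inv P hP)
      have hsemi : (M - 1) * P.val = P.val * Matrix.fromBlocks (g₁ - 1) 0 0 (g₂ - 1) := by
        rw [fromBlocks_sub_one, Matrix.sub_mul, Matrix.mul_sub, h, Matrix.one_mul,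
          Matrix.mul_one]
      have hMr : ((M - 1) ^ Fintype.card (α ⊕ β)).rank = Fintype.card β := by
        rw [Fintype.card_sum, rank_pow_of_semiconj (M - 1) _ P hsemi,
          rank_pow_fromBlocks (g₁ - 1) (g₂ - 1) hn₁ hu₂]
      obtain ⟨g, hg⟩ : ∃ g : S, g = ⟨M, hMi, hMr⟩ := ⟨_, rfl⟩
      have hgM : g.1 = M := by rw [hg]
      have hsemi0 : (M - 1) * (P₀ g).val =
          (P₀ g).val * Matrix.fromBlocks (a₀ g - 1) 0 0 (b₀ g - 1) := by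
        rw [fromBlocks_sub_one, Matrix.sub_mul, Matrix.mul_sub, ← hgM, hPD g, Matrix.one_mul,
          Matrix.mul_one]
      have hrig := fitting_rigid (a₀ g - 1) (g₁ - 1) (b₀ g - 1) (g₂ - 1) (hN₀ g) hn₁ (hA₀ g) hu₂
        ((P₀ g)⁻¹ * P) (semiconj_aux (M - 1) _ _ (P₀ g) P hsemi0 hsemi)
      obtain ⟨Q₁, Q₂, hQ⟩ := hrig
      have hR : Isom (Matrix.fromBlocks K₁ 0 0 K₂) ((P₀ g)⁻¹ * P).val := by
        rw [Units.val_mul]
        exact isom_mul (isom_inv (P₀ g) (hP₀ g)) hP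
      rw [hQ] at hR
      obtain ⟨hQ₁, hQ₂⟩ := (isom_fromBlocks K₁ Q₁.val K₂ Q₂.val).mp hR
      refine ⟨(g, ⟨Q₁, hQ₁⟩, ⟨Q₂, hQ₂⟩), ?_⟩
      apply Subtype.ext
      simp only [f₂]
      refine Prod.ext ?_ hgM
      simp only
      have : diagGL Q₁ Q₂ = (P₀ g)⁻¹ * P := Units.ext (by rw [diagGL_val, hQ])
      rw [this, mul_inv_cancel_left]
  have c1 := Nat.card_eq_of_bijective f₁ hf₁
  have c2 := Nat.card_eq_of_bijective f₂ hf₂
  rw [Nat.card_prod, Nat.card_prod] at c1 c2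
  rw [card_isomGL hKu] at c1
  rw [card_isomGL hK₁.2.2, card_isomGL hK₂.2.2] at c2
  exact c2.trans c1.symm

end Cfsg.Agent.Lib.Helper90.SPU
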