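import Mathlib
import Cfsg.Agent.Lib.Helper19.SPU.Defs
import Cfsg.Agent.Lib.Helper40.Fitting
import Cfsg.Agent.Lib.Helper90.SPU.Fit1

/-!
# Project SPU (S2316): package [FIT2]

The double count for the stratum of the affine family `𝒜(diag(K₁, K₂))` whose `X² + X` has
stable rank `|β|` (same skeleton as [FIT1]).
-/

set_option autoImplicit false

namespace Cfsg.Agent.Lib.Helper90.SPU

open Matrix Cfsg.Agent.Lib.Helper19.SPU Cfsg.Agent.Lib.Helper40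

universe u

section basics2

variable {F : Type u} [Field F] {n : Type} [Fintype n] [DecidableEq n]

theorem affA_conj {K X : Matrix n n F} (Q : GL n F) (hQ : Isom K Q.val) (hX : AffA K X) :
    AffA K ((Q⁻¹).val * X * Q.val) := by
  unfold AffA Isom at *
  have e1 : ((Q⁻¹).val)ᵀ * K = K * Q.val := by
    have : ((Q⁻¹).val)ᵀ * (Q.valᵀ * K * Q.val) = K * Q.val := by
      rw [← Matrix.mul_assoc, ← Matrix.mul_assoc, ← Matrix.transpose_mul, Units.mul_inv,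
        Matrix.transpose_one, Matrix.one_mul]
    rw [hQ] at this
    exact this
  have e2 : K * (Q⁻¹).val = Q.valᵀ * K := by
    have : (Q.valᵀ * K * Q.val) * (Q⁻¹).val = Q.valᵀ * K := by
      rw [Matrix.mul_assoc, Units.mul_inv, Matrix.mul_one]
    rw [hQ] at this
    exact this
  have e3 : ((Q⁻¹).val * X * Q.val)ᵀ * K + K * ((Q⁻¹).val * X * Q.val) + K =
      Q.valᵀ * (Xᵀ * K + K * X + K) * Q.val := by
    rw [Matrix.transpose_mul, Matrix.transpose_mul]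
    calc Q.valᵀ * (Xᵀ * ((Q⁻¹).val)ᵀ) * K + K * ((Q⁻¹).val * X * Q.val) + K
        = Q.valᵀ * Xᵀ * (((Q⁻¹).val)ᵀ * K) + (K * (Q⁻¹).val) * X * Q.val + K := by
          simp only [Matrix.mul_assoc]
      _ = Q.valᵀ * Xᵀ * (K * Q.val) + (Q.valᵀ * K) * X * Q.val + Q.valᵀ * K * Q.val := by
          rw [e1, e2, hQ]
      _ = Q.valᵀ * (Xᵀ * K + K * X + K) * Q.val := by
          simp only [Matrix.mul_add, Matrix.add_mul, Matrix.mul_assoc]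
  rw [e3, hX, Matrix.mul_zero, Matrix.zero_mul]

theorem affA_fromBlocks {α β : Type} [Fintype α] [DecidableEq α] [Fintype β] [DecidableEq β]
    (K₁ X₁ : Matrix α α F) (K₂ X₂ : Matrix β β F) :
    AffA (Matrix.fromBlocks K₁ 0 0 K₂) (Matrix.fromBlocks X₁ 0 0 X₂) ↔
      AffA K₁ X₁ ∧ AffA K₂ X₂ := by
  unfold AffA
  have key : (Matrix.fromBlocks X₁ 0 0 X₂)ᵀ * Matrix.fromBlocks K₁ 0 0 K₂ +
      Matrix.fromBlocks K₁ 0 0 K₂ * Matrix.fromBlocks X₁ 0 0 X₂ + Matrix.fromBlocks K₁ 0 0 K₂ =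
      Matrix.fromBlocks (X₁ᵀ * K₁ + K₁ * X₁ + K₁) 0 0 (X₂ᵀ * K₂ + K₂ * X₂ + K₂) := by
    rw [Matrix.fromBlocks_transpose, Matrix.fromBlocks_multiply, Matrix.fromBlocks_multiply,
      Matrix.fromBlocks_add, Matrix.fromBlocks_add]
    simp
  rw [key]
  constructor
  · intro h
    rw [← Matrix.fromBlocks_zero, Matrix.fromBlocks_inj] at h
    exact ⟨h.1, h.2.2.2⟩
  · rintro ⟨h1, h2⟩
    rw [h1, h2, Matrix.fromBlocks_zero]

theorem affA_isUnit_sq_add {K X : Matrix n n F} (hK : IsUnit K) (hX : AffA K X)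
    (hu : IsUnit X) : IsUnit (X * X + X) := by
  have e : X * X + X = X * (X + 1) := by rw [Matrix.mul_add, Matrix.mul_one]
  rw [e]
  refine hu.mul ?_
  have h1 : K * (X + 1) = -(Xᵀ * K) := by
    unfold AffA at hX
    rw [Matrix.mul_add, Matrix.mul_one, eq_neg_iff_add_eq_zero, ← hX]
    abel
  rw [Matrix.isUnit_iff_isUnit_det] at hK hu ⊢
  have h3 := congrArg Matrix.det h1
  rw [Matrix.det_mul, Matrix.det_neg, Matrix.det_mul, Matrix.det_transpose] at h3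
  have h4 : IsUnit (K.det * (X + 1).det) := by
    rw [h3]
    exact ((isUnit_one.neg).pow _).mul (hu.mul hK)
  exact (IsUnit.mul_iff.mp h4).2

theorem conj_sq_add (Q : GL n F) (X : Matrix n n F) :
    (Q⁻¹).val * X * Q.val * ((Q⁻¹).val * X * Q.val) + (Q⁻¹).val * X * Q.val =
      (Q⁻¹).val * (X * X + X) * Q.val := by
  rw [Matrix.mul_add, Matrix.add_mul]
  congr 1
  simp only [Matrix.mul_assoc]
  rw [Units.mul_inv_cancel_left]

theorem sq_add_semiconj {α β : Type} [Fintype α] [DecidableEq α] [Fintype β] [DecidableEq β]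
    (M : Matrix (α ⊕ β) (α ⊕ β) F) (P : GL (α ⊕ β) F) (X₁ : Matrix α α F) (X₂ : Matrix β β F)
    (h : M * P.val = P.val * Matrix.fromBlocks X₁ 0 0 X₂) :
    (M * M + M) * P.val = P.val * Matrix.fromBlocks (X₁ * X₁ + X₁) 0 0 (X₂ * X₂ + X₂) := by
  have e : Matrix.fromBlocks (X₁ * X₁ + X₁) 0 0 (X₂ * X₂ + X₂) =
      Matrix.fromBlocks X₁ 0 0 X₂ * Matrix.fromBlocks X₁ 0 0 X₂ + Matrix.fromBlocks X₁ 0 0 X₂ := by
    rw [Matrix.fromBlocks_multiply, Matrix.fromBlocks_add]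
    simp
  rw [e]
  calc (M * M + M) * P.val = M * (M * P.val) + M * P.val := by
        rw [Matrix.add_mul, Matrix.mul_assoc]
    _ = M * (P.val * Matrix.fromBlocks X₁ 0 0 X₂) + P.val * Matrix.fromBlocks X₁ 0 0 X₂ := by
        rw [h]
    _ = (M * P.val) * Matrix.fromBlocks X₁ 0 0 X₂ + P.val * Matrix.fromBlocks X₁ 0 0 X₂ := by
        rw [Matrix.mul_assoc]
    _ = P.val * Matrix.fromBlocks X₁ 0 0 X₂ * Matrix.fromBlocks X₁ 0 0 X₂ +
          P.val * Matrix.fromBlocks X₁ 0 0 X₂ := by rw [h]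
    _ = P.val * (Matrix.fromBlocks X₁ 0 0 X₂ * Matrix.fromBlocks X₁ 0 0 X₂ +
          Matrix.fromBlocks X₁ 0 0 X₂) := by rw [Matrix.mul_add, Matrix.mul_assoc]

end basics2

/-- [FIT2] the double count for the stratum of the affine family. -/
theorem pkgFit2_of (hDec : PkgDec2N.{u}) : PkgFit2.{u} := by
  intro F _ _ α β _ _ _ _ K₁ K₂ hK₁ hK₂
  classical
  have hKu : IsUnit (Matrix.fromBlocks K₁ 0 0 K₂) := isUnit_fromBlocks_diag hK₁.2.2 hK₂.2.2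
  let X : Type _ := {x : GL (α ⊕ β) F × Matrix (α ⊕ β) (α ⊕ β) F //
    Isom (Matrix.fromBlocks K₁ 0 0 K₂) x.1.val ∧ ∃ (g₁ : Matrix α α F) (g₂ : Matrix β β F),
      AffA K₁ g₁ ∧ IsNilpotent (g₁ * g₁ + g₁) ∧ AffA K₂ g₂ ∧ IsUnit g₂ ∧
      x.2 * x.1.val = x.1.val * Matrix.fromBlocks g₁ 0 0 g₂}
  -- first parametrisation
  let f₁ : {P : GL (α ⊕ β) F // Isom (Matrix.fromBlocks K₁ 0 0 K₂) P.val} ×
      ({g₁ : Matrix α α F // AffA K₁ g₁ ∧ IsNilpotent (g₁ * g₁ + g₁)} ×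
        {g₂ : Matrix β β F // AffA K₂ g₂ ∧ IsUnit g₂}) → X := fun t =>
    ⟨(t.1.1, t.1.1.val * Matrix.fromBlocks t.2.1.1 0 0 t.2.2.1 * (t.1.1⁻¹).val), t.1.2,
      t.2.1.1, t.2.2.1, t.2.1.2.1, t.2.1.2.2, t.2.2.2.1, t.2.2.2.2, by
        show t.1.1.val * Matrix.fromBlocks t.2.1.1 0 0 t.2.2.1 * (t.1.1⁻¹).val * t.1.1.val =
          t.1.1.val * Matrix.fromBlocks t.2.1.1 0 0 t.2.2.1
        rw [Matrix.mul_assoc, Units.inv_mul, Matrix.mul_one]⟩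
  have hf₁ : Function.Bijective f₁ := by
    constructor
    · rintro ⟨⟨P, hP⟩, ⟨g₁, hg₁⟩, ⟨g₂, hg₂⟩⟩ ⟨⟨P', hP'⟩, ⟨g₁', hg₁'⟩, ⟨g₂', hg₂'⟩⟩ hEq
      have h1 := congrArg (fun x : X => x.1.1) hEq
      have h2 := congrArg (fun x : X => x.1.2) hEq
      simp only [f₁] at h1 h2
      subst h1
      have h3 : Matrix.fromBlocks g₁ 0 0 g₂ = Matrix.fromBlocks g₁' 0 0 g₂' := by
        have := congrArg (fun Z => (P⁻¹).val * Z * P.val) h2
        simpa [Matrix.mul_assoc, ← Matrix.mul_assoc (P⁻¹).val P.val] using this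
      rw [Matrix.fromBlocks_inj] at h3
      obtain ⟨e1, -, -, e2⟩ := h3
      subst e1; subst e2
      rfl
    · rintro ⟨⟨P, M⟩, hP, g₁, g₂, h1, h2, h3, h4, h⟩
      refine ⟨(⟨P, hP⟩, ⟨g₁, h1, h2⟩, ⟨g₂, h3, h4⟩), ?_⟩
      apply Subtype.ext
      simp only [f₁]
      refine Prod.ext rfl ?_
      simp only
      simp only at h
      rw [← h, Matrix.mul_assoc, Units.mul_inv, Matrix.mul_one]
  -- second parametrisation
  let S : Type _ := {g : Matrix (α ⊕ β) (α ⊕ β) F // AffA (Matrix.fromBlocks K₁ 0 0 K₂) g ∧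
    ((g * g + g) ^ Fintype.card (α ⊕ β)).rank = Fintype.card β}
  have hex : ∀ g : S, ∃ (P : GL (α ⊕ β) F) (g₁ : Matrix α α F) (g₂ : Matrix β β F),
      Isom (Matrix.fromBlocks K₁ 0 0 K₂) P.val ∧
      g.1 * P.val = P.val * Matrix.fromBlocks g₁ 0 0 g₂ ∧ AffA K₁ g₁ ∧ AffA K₂ g₂ ∧
      IsNilpotent (g₁ * g₁ + g₁) ∧ IsUnit g₂ := fun g =>
    hDec F α β K₁ K₂ g.1 hK₁ hK₂ g.2.1 (by rw [← Fintype.card_sum]; exact g.2.2)
  choose P₀ a₀ b₀ hP₀ hPD hI₁ hI₂ hN₀ hA₀ using hex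
  have hconj : ∀ (g : S) (Q₁ : GL α F) (Q₂ : GL β F), Isom K₁ Q₁.val → Isom K₂ Q₂.val →
      Isom (Matrix.fromBlocks K₁ 0 0 K₂) (P₀ g * diagGL Q₁ Q₂).val ∧
      ∃ (g₁ : Matrix α α F) (g₂ : Matrix β β F), AffA K₁ g₁ ∧ IsNilpotent (g₁ * g₁ + g₁) ∧
        AffA K₂ g₂ ∧ IsUnit g₂ ∧
        g.1 * (P₀ g * diagGL Q₁ Q₂).val =
          (P₀ g * diagGL Q₁ Q₂).val * Matrix.fromBlocks g₁ 0 0 g₂ := by
    intro g Q₁ Q₂ hQ₁ hQ₂
    refine ⟨?_, (Q₁⁻¹).val * a₀ g * Q₁.val, (Q₂⁻¹).val * b₀ g * Q₂.val, ?_, ?_, ?_, ?_, ?_⟩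
    · rw [Units.val_mul, diagGL_val]
      exact isom_mul (hP₀ g) ((isom_fromBlocks K₁ Q₁.val K₂ Q₂.val).mpr ⟨hQ₁, hQ₂⟩)
    · exact affA_conj Q₁ hQ₁ (hI₁ g)
    · rw [conj_sq_add]
      obtain ⟨k, hk⟩ := hN₀ g
      exact ⟨k, by rw [Units.conj_pow', hk, Matrix.mul_zero, Matrix.zero_mul]⟩
    · exact affA_conj Q₂ hQ₂ (hI₂ g)
    · exact ((Q₂⁻¹).isUnit.mul (hA₀ g)).mul Q₂.isUnit
    · have e : Matrix.fromBlocks ((Q₁⁻¹).val * a₀ g * Q₁.val) 0 0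
          ((Q₂⁻¹).val * b₀ g * Q₂.val) =
          (diagGL Q₁ Q₂)⁻¹.val * Matrix.fromBlocks (a₀ g) 0 0 (b₀ g) * (diagGL Q₁ Q₂).val := by
        rw [diagGL_inv_val, diagGL_val, Matrix.fromBlocks_multiply, Matrix.fromBlocks_multiply]
        simp
      rw [e, Units.val_mul, ← Matrix.mul_assoc, hPD g]
      simp only [Matrix.mul_assoc]
      rw [Units.mul_inv_cancel_left]
  let f₂ : S × ({Q₁ : GL α F // Isom K₁ Q₁.val} × {Q₂ : GL β F // Isom K₂ Q₂.val}) → X :=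
    fun t => ⟨(P₀ t.1 * diagGL t.2.1.1 t.2.2.1, t.1.1),
      hconj t.1 t.2.1.1 t.2.2.1 t.2.1.2 t.2.2.2⟩
  have hf₂ : Function.Bijective f₂ := by
    constructor
    · rintro ⟨M, ⟨Q₁, hQ₁⟩, ⟨Q₂, hQ₂⟩⟩ ⟨M', ⟨Q₁', hQ₁'⟩, ⟨Q₂', hQ₂'⟩⟩ hEq
      have h1 := congrArg (fun x : X => x.1.1) hEq
      have h2 := congrArg (fun x : X => x.1.2) hEq
      simp only [f₂] at h1 h2
      have hM : M = M' := Subtype.ext h2
      subst hM
      have h3 : diagGL Q₁ Q₂ = diagGL Q₁' Q₂' := mul_left_cancel h1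
      have h4 := congrArg Units.val h3
      rw [diagGL_val, diagGL_val, Matrix.fromBlocks_inj] at h4
      obtain ⟨h5, -, -, h6⟩ := h4
      have e1 : Q₁ = Q₁' := Units.ext h5
      have e2 : Q₂ = Q₂' := Units.ext h6
      subst e1; subst e2
      rfl
    · rintro ⟨⟨P, M⟩, hP, g₁, g₂, hg₁, hn₁, hg₂, hu₂, h⟩
      replace h : M * P.val = P.val * Matrix.fromBlocks g₁ 0 0 g₂ := h
      replace hP : Isom (Matrix.fromBlocks K₁ 0 0 K₂) P.val := hP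
      have hD : AffA (Matrix.fromBlocks K₁ 0 0 K₂) (Matrix.fromBlocks g₁ 0 0 g₂) :=
        (affA_fromBlocks K₁ g₁ K₂ g₂).mpr ⟨hg₁, hg₂⟩
      have hMeq : M = ((P⁻¹)⁻¹).val * Matrix.fromBlocks g₁ 0 0 g₂ * (P⁻¹).val := by
        rw [inv_inv, ← h, Matrix.mul_assoc, Units.mul_inv, Matrix.mul_one]
      have hMi : AffA (Matrix.fromBlocks K₁ 0 0 K₂) M := by
        rw [hMeq]
        exact affA_conj (P⁻¹) (isom_inv P hP) hD
      have hsemi := sq_add_semiconj M P g₁ g₂ h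
      have hu₂' : IsUnit (g₂ * g₂ + g₂) := affA_isUnit_sq_add hK₂.2.2 hg₂ hu₂
      have hMr : ((M * M + M) ^ Fintype.card (α ⊕ β)).rank = Fintype.card β := by
        rw [Fintype.card_sum, rank_pow_of_semiconj (M * M + M) _ P hsemi,
          rank_pow_fromBlocks (g₁ * g₁ + g₁) (g₂ * g₂ + g₂) hn₁ hu₂']
      obtain ⟨g, hg⟩ : ∃ g : S, g = ⟨M, hMi, hMr⟩ := ⟨_, rfl⟩
      have hgM : g.1 = M := by rw [hg]
      have hsemi0 := sq_add_semiconj M (P₀ g) (a₀ g) (b₀ g) (by rw [← hgM]; exact hPD g)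
      have hrig := fitting_rigid (a₀ g * a₀ g + a₀ g) (g₁ * g₁ + g₁) (b₀ g * b₀ g + b₀ g)
        (g₂ * g₂ + g₂) (hN₀ g) hn₁ (affA_isUnit_sq_add hK₂.2.2 (hI₂ g) (hA₀ g)) hu₂'
        ((P₀ g)⁻¹ * P) (semiconj_aux (M * M + M) _ _ (P₀ g) P hsemi0 hsemi)
      obtain ⟨Q₁, Q₂, hQ⟩ := hrig
      have hR : Isom (Matrix.fromBlocks K₁ 0 0 K₂) ((P₀ g)⁻¹ * P).val := by
        rw [Units.val_mul]
        exact isom_mul (isom_inv (P₀ g) (hP₀ g)) hP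
      rw [hQ] at hR
      obtain ⟨hQ₁, hQ₂⟩ := (isom_fromBlocks K₁ Q₁.val K₂ Q₂.val).mp hR
      refine ⟨(g, ⟨Q₁, hQ₁⟩, ⟨Q₂, hQ₂⟩), ?_⟩
      apply Subtype.ext
      simp only [f₂]
      refine Prod.ext ?_ hgM
      simp only
      have : diagGL Q₁ Q₂ = (P₀ g)⁻¹ * P := Units.ext (by rw [diagGL_val, hQ])
      rw [this, mul_inv_cancel_left]
  have c1 := Nat.card_eq_of_bijective f₁ hf₁
  have c2 := Nat.card_eq_of_bijective f₂ hf₂
  rw [Nat.card_prod, Nat.card_prod] at c1 c2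
  rw [card_isomGL hKu] at c1
  rw [card_isomGL hK₁.2.2, card_isomGL hK₂.2.2] at c2
  exact c2.trans c1.symm

end Cfsg.Agent.Lib.Helper90.SPU
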